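import Groth.Agent.ParNorm.Main
import Groth.Agent.SubLocus.Transporter
import Groth.Agent.MTBridge.Centralizer
import Groth.Agent.Chev.NormBC
import Groth.Agent.GrpField.Fibres
import Groth.Agent.FibCrit.Thickening

/-!
# Parabolic subgroups are their own normalizers over any base
-/

set_option autoImplicit false
set_option backward.isDefEq.respectTransparency false
set_option maxHeartbeats 1000000
set_option synthInstance.maxHeartbeats 400000

universe u

open CategoryTheory CategoryTheory.Limits MonoidalCategory CartesianMonoidalCategory MonObj GrpObj AlgebraicGeometry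

noncomputable section

namespace Groth.Agent.ParNorm

variable {S : Scheme.{u}}

/-- A map over the base from a flat scheme is an isomorphism when it is one on every geometric fibre. -/
theorem isIso_of_geomPts {A B : Over S} [LocallyOfFinitePresentation A.hom] [Flat A.hom]
    [LocallyOfFiniteType B.hom] (f : A ⟶ B) (h : ∀ s : S, IsIso ((Over.pullback (Red.geomPt s)).map f)) :
    IsIso f := by
  have hi : IsIso f.left := FibCrit.LFT.isIso_of_fibres (Over.w f) fun s => by
    let j : Spec (CommRingCat.of (AlgebraicClosure (S.residueField s))) ⟶ Spec (S.residueField s) :=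
      Spec.map (CommRingCat.ofHom (algebraMap (S.residueField s) (AlgebraicClosure (S.residueField s))))
    let τ := j ≫ S.fromSpecResidueField s
    haveI : IsIso ((Over.pullback τ).map f) := h s
    let F := ((Over.pullback τ).map f).left
    haveI : IsIso F := inferInstanceAs (IsIso ((Over.forget _).map ((Over.pullback τ).map f)))
    let ψ : pullback B.hom τ ⟶ B.hom.fiber s :=
      pullback.lift (pullback.fst B.hom τ) (pullback.snd B.hom τ ≫ j) (by
        rw [Category.assoc]; exact pullback.condition)
    have hψ : IsPullback ψ (pullback.snd B.hom τ) (pullback.snd B.hom (S.fromSpecResidueField s)) j :=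
      IsPullback.of_right (by
        rw [show ψ ≫ pullback.fst B.hom (S.fromSpecResidueField s) = pullback.fst B.hom τ from pullback.lift_fst _ _ _]
        exact IsPullback.of_hasPullback B.hom τ) (pullback.lift_snd _ _ _) (IsPullback.of_hasPullback _ _)
    have hj : (@Surjective ⊓ @Flat ⊓ @QuasiCompact : MorphismProperty Scheme.{u}) j :=
      ⟨⟨inferInstance, inferInstance⟩, inferInstance⟩
    have hψp : (@Surjective ⊓ @Flat ⊓ @QuasiCompact : MorphismProperty Scheme.{u}) ψ :=
      MorphismProperty.of_isPullback hψ.flip hj
    have hF : F ≫ pullback.fst B.hom τ = pullback.fst A.hom τ ≫ f.left := by simp [F, Over.pullback]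
    have sqA : IsPullback F (pullback.fst A.hom τ) (pullback.fst B.hom τ) f.left := by
      refine IsPullback.of_right ?_ hF (IsPullback.of_hasPullback B.hom τ).flip
      rw [show F ≫ pullback.snd B.hom τ = pullback.snd A.hom τ from Over.w ((Over.pullback τ).map f),
        show f.left ≫ B.hom = A.hom from Over.w f]
      exact (IsPullback.of_hasPullback A.hom τ).flip
    let u : pullback A.hom τ ⟶ pullback f.left (B.hom.fiberι s) :=
      pullback.lift (pullback.fst A.hom τ) (F ≫ ψ) (by
        rw [Category.assoc, show ψ ≫ B.hom.fiberι s = pullback.fst B.hom τ from pullback.lift_fst _ _ _]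
        exact hF.symm)
    have sqB : IsPullback F u ψ (pullback.snd f.left (B.hom.fiberι s)) := by
      refine IsPullback.of_bot ?_ (pullback.lift_snd _ _ _).symm (IsPullback.of_hasPullback f.left (B.hom.fiberι s)).flip
      rw [show ψ ≫ B.hom.fiberι s = pullback.fst B.hom τ from pullback.lift_fst _ _ _,
        show u ≫ pullback.fst f.left (B.hom.fiberι s) = pullback.fst A.hom τ from pullback.lift_fst _ _ _]
      exact sqA
    exact MorphismProperty.of_isPullback_of_descendsAlong (P := MorphismProperty.isomorphisms Scheme.{u})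
      (Q := (@Surjective ⊓ @Flat ⊓ @QuasiCompact : MorphismProperty Scheme.{u})) sqB hψp
      (show IsIso F from inferInstance)
  haveI : IsIso ((Over.forget S).map f) := hi
  exact isIso_of_reflects_iso f (Over.forget S)

/-- Connected geometric fibres give connected fibres. -/
theorem isConnected_fibre (X : Over S) (hc : ∀ s : S, ConnectedSpace (Red.geomFibre s X).left) (s : S) :
    _root_.IsConnected (X.hom.base ⁻¹' {s}) := by
  haveI : ConnectedSpace ↥(Limits.pullback X.hom (Red.geomPt s)) := hc s
  have h := isConnected_range (Limits.pullback.fst X.hom (Red.geomPt s)).continuous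
  rw [Scheme.Pullback.range_fst] at h
  convert h
  refine subset_antisymm ?_ ?_
  · rintro _ rfl
    exact ⟨default, by rw [Red.geomPt, Scheme.Hom.comp_apply]; exact Scheme.fromSpecResidueField_apply _ _⟩
  · rintro _ ⟨p, rfl⟩
    rw [Set.mem_singleton_iff, Red.geomPt, Scheme.Hom.comp_apply]
    exact Scheme.fromSpecResidueField_apply _ _

/-- Geometric fibres of parabolic subgroups are connected. -/
theorem connectedSpace_geomFibre_parabolic {G P : Over S} [GrpObj G] [GrpObj P] [IsAffineHom G.hom] [Smooth G.hom]
    (hfib : ∀ s : S, ConnectedSpace (Red.geomFibre s G).left) (i : P ⟶ G) (hP : Red.IsParabolic i) (s : S) :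
    ConnectedSpace (Red.geomFibre s P).left := by
  haveI := hfib s
  haveI : Smooth (Red.geomFibre s G).hom := inferInstanceAs (Smooth (pullback.snd G.hom _))
  haveI : IsAffine (Red.geomFibre s G).left :=
    haveI : IsAffineHom (Red.geomFibre s G).hom := inferInstanceAs (IsAffineHom (pullback.snd G.hom _))
    isAffine_of_isAffineHom (Red.geomFibre s G).hom
  exact connectedSpace_parabolic (hP.2.2.2 s)

/-- **Parabolic subgroups are their own normalizers.** -/
theorem isNormalizerOf_self {G P : Over S} [GrpObj G] [GrpObj P] [IsAffineHom G.hom] [Smooth G.hom]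
    (hfib : ∀ s : S, ConnectedSpace (Red.geomFibre s G).left) (i : P ⟶ G) (hP : Red.IsParabolic i) :
    Red.IsNormalizerOf i i := by
  haveI := hP.1; haveI := hP.2.1; haveI := hP.2.2.1
  haveI : Mono i := (Over.forget _).mono_of_mono_map (show Mono i.left from inferInstance)
  haveI : QuasiCompact P.hom := by rw [← Over.w i]; infer_instance
  haveI : GeometricallyIrreducible P.hom :=
    GrpField.geometricallyIrreducible_of_connected_fibres P
      (isConnected_fibre P (connectedSpace_geomFibre_parabolic hfib i hP))
  obtain ⟨N, n, hn, -, hN⟩ := SubLocus.exists_normalizer (G := G) (H := P) (i := i)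
  haveI := hn
  haveI : Mono n := (Over.forget _).mono_of_mono_map (show Mono n.left from inferInstance)
  obtain ⟨hNg, hnm⟩ := MTBridge.exists_grpObj_of_div n ((hN _ _).2 fun X' x h => by
      rw [show x ≫ η[G] = (1 : X' ⟶ G) by rw [Hom.one_def, toUnit_unique (toUnit X') x]]
      exact ⟨⟨h, by simp⟩, ⟨h, by simp⟩⟩) (fun T k₁ k₂ => (hN _ _).2 fun X' x h => by
      have h1 := (hN _ (k₁ ≫ n)).1 ⟨k₁, rfl⟩ X' x
      have h2 := (hN _ (k₂ ≫ n)).1 ⟨k₂, rfl⟩ X' x
      rw [MonObj.comp_mul, GrpObj.comp_inv]
      constructor
      · obtain ⟨a, ha⟩ := (h2 h).1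
        obtain ⟨b, hb⟩ := (h1 a).2
        exact ⟨b, by rw [← hb, ← ha]; group⟩
      · obtain ⟨a, ha⟩ := (h1 h).1
        obtain ⟨b, hb⟩ := (h2 a).2
        exact ⟨b, by rw [← hb, ← ha]; group⟩)
  have hNn : Red.IsNormalizerOf i n := ⟨hnm, inferInstance, hN⟩
  obtain ⟨s, hs⟩ := (hN P i).2 fun X' x h => by
    refine ⟨⟨x * h * x⁻¹, ?_⟩, ⟨x⁻¹ * h * x, ?_⟩⟩ <;> simp only [MonObj.mul_comp, GrpObj.inv_comp]
  haveI : LocallyOfFiniteType N.hom := by rw [← Over.w n]; infer_instance
  haveI : IsIso s := isIso_of_geomPts s fun t => by
    haveI := hfib t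
    haveI : Smooth (Red.geomFibre t G).hom := inferInstanceAs (Smooth (pullback.snd G.hom _))
    haveI : IsAffine (Red.geomFibre t G).left :=
      haveI : IsAffineHom (Red.geomFibre t G).hom := inferInstanceAs (IsAffineHom (pullback.snd G.hom _))
      isAffine_of_isAffineHom (Red.geomFibre t G).hom
    haveI : IsClosedImmersion ((Over.pullback (Red.geomPt t)).map n).left := by
      have h1 : ((Over.pullback (Red.geomPt t)).map n).left ≫ pullback.fst G.hom (Red.geomPt t) =
          pullback.fst N.hom (Red.geomPt t) ≫ n.left := pullback.lift_fst _ _ _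
      have sq : IsPullback ((Over.pullback (Red.geomPt t)).map n).left (pullback.fst N.hom (Red.geomPt t))
          (pullback.fst G.hom (Red.geomPt t)) n.left := by
        refine IsPullback.of_right ?_ h1 (IsPullback.of_hasPullback G.hom (Red.geomPt t)).flip
        rw [show ((Over.pullback (Red.geomPt t)).map n).left ≫ pullback.snd G.hom (Red.geomPt t) =
          pullback.snd N.hom (Red.geomPt t) from Over.w ((Over.pullback (Red.geomPt t)).map n), Over.w n]
        exact (IsPullback.of_hasPullback N.hom (Red.geomPt t)).flip
      exact MorphismProperty.of_isPullback (P := @IsClosedImmersion) sq.flip inferInstance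
    exact isIso_to_normalizer_parabolic (hP.2.2.2 t) ((Over.pullback (Red.geomPt t)).map n)
      (Chev.CentBC.isNormalizerOf_bc _ i n hNn) ((Over.pullback (Red.geomPt t)).map s)
      (by rw [← Functor.map_comp, hs])
  refine ⟨inferInstance, inferInstance, fun X g => ?_⟩
  rw [← hN]
  constructor
  · rintro ⟨z, rfl⟩
    exact ⟨z ≫ s, by rw [Category.assoc, hs]⟩
  · rintro ⟨z, rfl⟩
    exact ⟨z ≫ inv s, by rw [← hs, Category.assoc, IsIso.inv_hom_id_assoc]⟩

end Groth.Agent.ParNorm
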