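import Groth.Agent.Chev.CartanNorm
import Groth.Agent.Chev.Component
import Groth.Agent.Chev.Parabolic
import Groth.Agent.Chev.CentNilp
import Groth.Agent.Chev.MaxTori

/-!
# Parabolic subgroups over an algebraically closed field are connected and self-normalising
-/

set_option autoImplicit false
set_option backward.isDefEq.respectTransparency false
set_option maxHeartbeats 1000000

universe u

open CategoryTheory CategoryTheory.Limits MonoidalCategory CartesianMonoidalCategory MonObj GrpObj AlgebraicGeometry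
open Groth.Agent.SubGen (rpt exists_rpt map_rpt)

noncomputable section

namespace Groth.Agent.ParNorm

open Groth.Agent.Chev Groth.Agent.Chev.BorelFixed Groth.Agent.Chev.Borel

variable {k : Type u} [Field k] [IsAlgClosed k]
variable {G P : Over (Spec (CommRingCat.of k))} [GrpObj G] [GrpObj P] [IsAffine G.left] [Smooth G.hom]
  [ConnectedSpace G.left] {iP : P ⟶ G}

/-- A point conjugating a Borel subgroup into a connected subgroup containing it lies in that subgroup. -/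
theorem exists_of_conj_le {P₀ B : Over (Spec (CommRingCat.of k))} [GrpObj P₀] [GrpObj B] (i₀ : P₀ ⟶ G) [IsMonHom i₀]
    [IsClosedImmersion i₀.left] [Smooth P₀.hom] [ConnectedSpace P₀.left] (b : B ⟶ P₀) (hb : Red.IsBorelOver k (b ≫ i₀))
    (g : RP G) (hg : ∃ f : B ⟶ P₀, f ≫ i₀ = AGF.conjBy g (b ≫ i₀)) : ∃ p : RP P₀, p ≫ i₀ = g := by
  haveI : IsAffine P₀.left := isAffine_of_isAffineHom i₀.left
  haveI : Mono i₀ := GrpField.SchImg.mono_of_isClosedImmersion i₀
  have hres : ∀ {B' : Over (Spec (CommRingCat.of k))} [GrpObj B'] (f' : B' ⟶ P₀),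
      Red.IsBorelOver k (f' ≫ i₀) → Red.IsBorelOver k f' := fun {B'} _ f' hf' => by
    obtain ⟨hm, hc, hs, hconn, hsol, hmax⟩ := hf'
    haveI := hm; haveI := hc
    haveI : IsMonHom f' := MTSplit.isMonHom_of_comp_mono f' i₀ (f' ≫ i₀) rfl
    haveI : IsClosedImmersion (f'.left ≫ i₀.left) := hc
    refine ⟨inferInstance, IsClosedImmersion.of_comp f'.left i₀.left, hs, hconn, hsol,
      fun B'' _ i'' _ u hc' hs' hconn' hsol' hu => ?_⟩
    haveI := hc'
    exact hmax B'' (i'' ≫ i₀) u (inferInstanceAs (IsClosedImmersion (i''.left ≫ i₀.left))) hs' hconn' hsol'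
      (by rw [← Category.assoc, hu])
  obtain ⟨f, hf⟩ := hg
  have hbf : Red.IsBorelOver k (f ≫ i₀) := hf ▸ isBorelOver_conjBy g _ hb
  obtain ⟨q, e, he⟩ := borel_conj b f (hres b hb) (hres f hbf)
  -- `g` and `q` conjugate the Borel subgroup to the same subgroup
  have h1 : ∀ x : RP B, ∃ x' : RP B, x' ≫ b ≫ i₀ =
      ((q ≫ i₀)⁻¹ * g) * (x ≫ b ≫ i₀) * ((q ≫ i₀)⁻¹ * g)⁻¹ := fun x => by
    refine ⟨x ≫ e.inv, ?_⟩
    have h2 := congrArg (fun z => (x ≫ e.inv) ≫ z) he
    rw [comp_conjBy, Category.assoc, e.inv_hom_id_assoc, toUnit_unique (toUnit _) (𝟙 _), Category.id_comp] at h2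
    have h3 := congrArg (· ≫ i₀) h2
    simp only [MonObj.mul_comp, GrpObj.inv_comp, Category.assoc] at h3
    rw [hf, comp_conjBy, toUnit_unique (toUnit _) (𝟙 _), Category.id_comp] at h3
    rw [_root_.mul_inv_rev, _root_.inv_inv, Category.assoc,
      show ((q ≫ i₀)⁻¹ * g) * (x ≫ b ≫ i₀) * (g⁻¹ * (q ≫ i₀)) =
        (q ≫ i₀)⁻¹ * (g * (x ≫ b ≫ i₀) * g⁻¹) * (q ≫ i₀) by group, h3]
    group
  obtain ⟨β, hβ⟩ := mem_borel_of_normalizes (b ≫ i₀) hb ((q ≫ i₀)⁻¹ * g) h1
  refine ⟨q * (β ≫ b), ?_⟩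
  rw [MonObj.mul_comp, Category.assoc, hβ, mul_inv_cancel_left]

/-- A Borel subgroup in a parabolic one. -/
theorem exists_borel_factor (hP : Red.IsParabolicOver k iP) :
    ∃ (P₀ : Over (Spec (CommRingCat.of k))) (_ : GrpObj P₀) (c : P₀ ⟶ P) (B : Over (Spec (CommRingCat.of k)))
      (_ : GrpObj B) (b : B ⟶ P₀), IsMonHom c ∧ IsClosedImmersion c.left ∧ Smooth P₀.hom ∧ ConnectedSpace P₀.left ∧
        Set.range c.left = connectedComponent (GrpComp.ept P) ∧ Red.IsBorelOver k (b ≫ c ≫ iP) := by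
  obtain ⟨hm, hc, hs, B, hBg, b, hb⟩ := hP
  haveI := hm; haveI := hc; haveI := hs
  haveI : IsAffine P.left := isAffine_of_isAffineHom iP.left
  haveI : QuasiCompact P.hom := by rw [← Over.w iP]; infer_instance
  haveI : Mono iP := GrpField.SchImg.mono_of_isClosedImmersion iP
  obtain ⟨P₀, hP₀, c, hcm, hcc, hcs, hci, hcr⟩ := exists_component P
  haveI := hb.1; haveI := hb.2.2.1; haveI := hb.2.2.2.1
  haveI : IsMonHom b := MTSplit.isMonHom_of_comp_mono b iP (b ≫ iP) rfl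
  haveI : IsReduced B.left := SmoothRed.isReduced_of_smooth_scheme B.hom
  haveI := hcc
  obtain ⟨b₀, hb₀⟩ := exists_factor_component hcr b
  exact ⟨P₀, hP₀, c, B, hBg, b₀, hcm, hcc, hcs, inferInstance, hcr, by rwa [← Category.assoc, hb₀]⟩

/-- **Parabolic subgroups are connected.** -/
theorem connectedSpace_parabolic (hP : Red.IsParabolicOver k iP) : ConnectedSpace P.left := by
  obtain ⟨P₀, _, c, B, _, b, hcm, hcc, hcs, hcconn, hcr, hb⟩ := exists_borel_factor hP
  haveI := hP.1; haveI := hP.2.1; haveI := hP.2.2.1; haveI := hcm; haveI := hcc; haveI := hcs; haveI := hcconn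
  haveI : IsAffine P.left := isAffine_of_isAffineHom iP.left
  haveI : Mono iP := GrpField.SchImg.mono_of_isClosedImmersion iP
  haveI : IsClosedImmersion (c ≫ iP).left := inferInstanceAs (IsClosedImmersion (c.left ≫ iP.left))
  haveI := hb.1; haveI := hb.2.2.1; haveI := hb.2.2.2.1
  haveI : IsReduced B.left := SmoothRed.isReduced_of_smooth_scheme B.hom
  haveI : IsMonHom (b ≫ c) := MTSplit.isMonHom_of_comp_mono (b ≫ c) iP (b ≫ c ≫ iP) (Category.assoc _ _ _)
  haveI : LocallyOfFiniteType P.hom := inferInstance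
  haveI : JacobsonSpace P.left := LocallyOfFiniteType.jacobsonSpace P.hom
  have hall : Set.range c.left = Set.univ := by
    by_contra hne
    obtain ⟨y, hy, hyc⟩ := nonempty_inter_closedPoints (Z := (Set.range c.left)ᶜ) (Set.nonempty_compl.2 hne)
      c.left.isClosedEmbedding.isClosed_range.isOpen_compl.isLocallyClosed
    obtain ⟨p, hp⟩ := SubGen.exists_rpt hyc
    haveI := isMonHom_conjBy p (b ≫ c)
    obtain ⟨f, hf⟩ := exists_factor_component hcr (AGF.conjBy p (b ≫ c))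
    obtain ⟨p₀, hp₀⟩ := exists_of_conj_le (c ≫ iP) b hb (p ≫ iP) ⟨f, by
      rw [← Category.assoc, hf]
      simp only [AGF.conjBy, MonObj.mul_comp, GrpObj.inv_comp, Category.assoc]⟩
    refine hy ⟨rpt p₀, ?_⟩
    rw [← hp, map_rpt, (cancel_mono iP).1 ((Category.assoc _ _ _).trans hp₀)]
  rw [connectedSpace_iff_univ, ← hall]
  exact isConnected_range c.left.continuous

/-- **A rational point normalising a parabolic subgroup lies in it.** -/
theorem mem_parabolic_of_normalizes (hP : Red.IsParabolicOver k iP) (g : RP G)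
    (hg : ∀ p : RP P, ∃ p' : RP P, g * (p ≫ iP) * g⁻¹ = p' ≫ iP) : ∃ p : RP P, p ≫ iP = g := by
  haveI := connectedSpace_parabolic hP
  obtain ⟨hm, hc, hs, B, hBg, b, hb⟩ := hP
  haveI := hm; haveI := hc; haveI := hs
  haveI := hb.2.2.1
  haveI : IsReduced B.left := SmoothRed.isReduced_of_smooth_scheme B.hom
  haveI : LocallyOfFiniteType B.hom := inferInstance
  refine exists_of_conj_le iP b hb g (exists_lift_rp _ iP fun x => ?_)
  obtain ⟨p', hp'⟩ := hg (x ≫ b)
  rw [comp_conjBy, toUnit_unique (toUnit _) (𝟙 _), Category.id_comp, ← Category.assoc, hp']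
  exact ⟨rpt p', map_rpt iP p'⟩

/-- **The normalizer scheme of a parabolic subgroup is the subgroup.** -/
theorem isIso_to_normalizer_parabolic {N : Over (Spec (CommRingCat.of k))} [GrpObj N] (hP : Red.IsParabolicOver k iP)
    (j : N ⟶ G) (hN : Red.IsNormalizerOf iP j) [IsClosedImmersion j.left] (s : P ⟶ N) (hs : s ≫ j = iP) :
    IsIso s := by
  haveI := connectedSpace_parabolic hP
  haveI := hP.1; haveI := hP.2.1; haveI := hP.2.2.1; haveI := hN.2.1
  obtain ⟨B, hBg, b, hb⟩ := hP.2.2.2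
  obtain ⟨T₁, B₁, _, _, t₁, b₁, -, -, hb₁, hT₁, -⟩ := exists_maxTorus G
  obtain ⟨g₁, eB, heB⟩ := borel_conj b₁ (b ≫ iP) hb₁ hb
  obtain ⟨iT, hiT, ht⟩ : ∃ iT : T₁ ⟶ G, AGF.IsMaxTorus iT ∧ (t₁ ≫ eB.hom) ≫ b ≫ iP = iT :=
    ⟨_, isMaxTorus_conjBy g₁ _ hT₁, by rw [Category.assoc, heB, comp_conjBy']⟩
  haveI := hiT.1; haveI := hiT.2.1
  obtain ⟨C, _, c, hC, -, -⟩ := Groth.Agent.S5247.result T₁ G
    (MTBridge.isMultTypeFT_of_isTorus T₁ hiT.2.2.1) ‹Smooth G.hom› inferInstance iT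
  obtain ⟨f, hf⟩ := centralizer_le_borel iT hiT c hC (b ≫ iP) hb (t₁ ≫ eB.hom) ht
  refine isIso_to_normalizer' iP iT hiT.2.2.1 ((t₁ ≫ eB.hom) ≫ b) (by rw [← ht]; simp only [Category.assoc]) c hC
    (f ≫ b) (by rw [Category.assoc, hf]) j hN s hs fun x => ?_
  obtain ⟨p, hp⟩ := mem_parabolic_of_normalizes hP (x ≫ j) fun p => by
    obtain ⟨⟨p', hp'⟩, -⟩ := (hN.2.2 _ (x ≫ j)).1 ⟨x, rfl⟩ _ (𝟙 _) p
    exact ⟨p', by rw [← hp', Category.id_comp]⟩
  exact ⟨p, (cancel_mono j).1 (by rw [Category.assoc, hs, hp])⟩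

end Groth.Agent.ParNorm
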